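import Mathlib
import Cfsg.Prelude.Def_Characters

set_option autoImplicit false

/-!
Minimal degree of `SU_n(q)` (S2334, S2335): definitions for the abstract "chain of Heisenberg
groups" bound.  For commuting maps `z i : S → G` (`i < m`) the functions `theta χ z i` are the
characters of the successive fixed spaces of `z 0, …, z (i-1)` and `mu χ z i ψ` is the
multiplicity of the additive character `ψ` of `z i` on the `i`-th fixed space.
-/

namespace Cfsg.Agent.Lib.Helper1.SUMin

open scoped ComplexConjugate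

universe u

variable {G : Type u} [Group G] {S : Type u} [Fintype S]

/-- `ψ`-isotypic averaging of a function `θ` on `G` along a map `ζ : S → G`:
`g ↦ |S|⁻¹ ∑_c conj (ψ c) θ (ζ c * g)` -/
noncomputable def isoAvg (ζ : S → G) (ψ : S → ℂ) (θ : G → ℂ) : G → ℂ :=
  fun g => (Fintype.card S : ℂ)⁻¹ * ∑ c : S, conj (ψ c) * θ (ζ c * g)

/-- `theta χ z 0 = χ`, and `theta χ z (i+1)` is the average of `theta χ z i` along `z i` -/
noncomputable def theta (χ : G → ℂ) (z : ℕ → S → G) : ℕ → G → ℂ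
  | 0 => χ
  | (i + 1) => isoAvg (z i) (fun _ => 1) (theta χ z i)

/-- the multiplicity of `ψ` (a character of `z i`) in the `i`-th fixed space -/
noncomputable def mu (χ : G → ℂ) (z : ℕ → S → G) (i : ℕ) (ψ : S → ℂ) : ℂ :=
  isoAvg (z i) ψ (theta χ z i) 1

theorem isoAvg_apply (ζ : S → G) (ψ : S → ℂ) (θ : G → ℂ) (g : G) :
    isoAvg ζ ψ θ g = (Fintype.card S : ℂ)⁻¹ * ∑ c : S, conj (ψ c) * θ (ζ c * g) := rfl

theorem theta_zero (χ : G → ℂ) (z : ℕ → S → G) : theta χ z 0 = χ := rfl

theorem theta_succ (χ : G → ℂ) (z : ℕ → S → G) (i : ℕ) :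
    theta χ z (i + 1) = isoAvg (z i) (fun _ => 1) (theta χ z i) := rfl

theorem mu_def (χ : G → ℂ) (z : ℕ → S → G) (i : ℕ) (ψ : S → ℂ) :
    mu χ z i ψ = isoAvg (z i) ψ (theta χ z i) 1 := rfl

end Cfsg.Agent.Lib.Helper1.SUMin
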