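import Mathlib

set_option autoImplicit false

/-!
Minimal degree of `SU_n(q)` (S2334, S2335): the additive group of skew elements of a field with
an involution and its scaling by fixed elements.
-/

namespace Cfsg.Agent.Lib.Helper1.SUMin

variable {F : Type*} [Field F]

/-- the additive group of the skew elements `σ c = -c` -/
def skewS (σ : F ≃+* F) : AddSubgroup F where
  carrier := {c | σ c = -c}
  zero_mem' := by simp
  add_mem' := by
    intro a b ha hb
    have ha' : σ a = -a := ha
    have hb' : σ b = -b := hb
    show σ (a + b) = -(a + b)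
    rw [map_add, ha', hb', neg_add]
  neg_mem' := by
    intro a ha
    have ha' : σ a = -a := ha
    show σ (-a) = -(-a)
    rw [map_neg, ha']

theorem mem_skewS {σ : F ≃+* F} {c : F} : c ∈ skewS σ ↔ σ c = -c := Iff.rfl

theorem skewS_prop {σ : F ≃+* F} (a : skewS σ) : σ (a : F) = -(a : F) := a.2

noncomputable instance instFintypeSkewS [Finite F] (σ : F ≃+* F) : Fintype (skewS σ) :=
  Fintype.ofFinite _

open Classical in
/-- scaling of a skew element by `r` (meant for `r` fixed by `σ`; `0` otherwise) -/
noncomputable def sc (σ : F ≃+* F) (r : F) (a : skewS σ) : skewS σ :=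
  if h : σ (r * (a : F)) = -(r * (a : F)) then ⟨r * (a : F), h⟩ else 0

theorem sc_val {σ : F ≃+* F} {r : F} (hr : σ r = r) (a : skewS σ) :
    ((sc σ r a : skewS σ) : F) = r * (a : F) := by
  have h : σ (r * (a : F)) = -(r * (a : F)) := by
    rw [map_mul, hr, skewS_prop, mul_neg]
  unfold sc
  rw [dif_pos h]

end Cfsg.Agent.Lib.Helper1.SUMin
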