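import Mathlib
import Cfsg.Agent.Lib.Helper1.SUT.Rank1
import Cfsg.Agent.Lib.Helper1.SUMin.FieldDefs

set_option autoImplicit false

/-!
Minimal degree of `SU_n(q)` (S2334, S2335): the concrete long root groups `zc i`, the elements
`yc i` and the Heisenberg groups `Qc i` attached to `m` hyperbolic pairs `(e i, f i)` of a
Hermitian space (all inside the group `V ≃ₗ[F] V`).
-/

namespace Cfsg.Agent.Lib.Helper1.SUMin

open Module Cfsg.Agent.Lib.Helper2 Cfsg.Agent.Lib.Helper2.IsomDecomp Cfsg.Agent.Lib.Helper2.UT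
  Cfsg.Agent.Lib.Helper5.PSLCoset Cfsg.Agent.Lib.Helper1.SUR Cfsg.Agent.Lib.Helper1.SUT

variable {F : Type*} [Field F] {σ : F ≃+* F} {V : Type*} [AddCommGroup V] [Module F V]
  {H : V → V → F}

section defs

variable (h : IsHerm σ H) {e : ℕ → V} (hee : ∀ i j, H (e i) (e j) = 0)

/-- the long root element `x ↦ x + a H(x, e_i) e_i` -/
noncomputable def zc (i : ℕ) (a : F) : V ≃ₗ[F] V := tv h (e i) a (hee i i)

/-- `x ↦ x + β H(x, e_{i-1}) e_i − σ(β) H(x, e_i) e_{i-1}` -/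
noncomputable def yc (i : ℕ) (β : F) : V ≃ₗ[F] V :=
  eich h (e (i - 1)) (β • e i) 0 (hee _ _) (by rw [h.smul_left, hee, mul_zero])

/-- `z` is orthogonal to `e_j, f_j` for `j ≤ i` -/
def PerpC (H : V → V → F) (e f : ℕ → V) (i : ℕ) (z : V) : Prop :=
  ∀ j, j ≤ i → H z (e j) = 0 ∧ H z (f j) = 0

/-- the set of the Eichler transformations `E_{e_i}(z, c)`, `z ⟂ e_j, f_j` (`j ≤ i`),
`c + σ c + H(z,z) = 0` -/
def QcSet (f : ℕ → V) (i : ℕ) : Set (V ≃ₗ[F] V) :=
  {g | ∃ (z : V) (c : F) (hz : H z (e i) = 0), PerpC H e f i z ∧ c + σ c + H z z = 0 ∧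
    g = eich h (e i) z c (hee i i) hz}

include h in
theorem perpC_zero (f : ℕ → V) (i : ℕ) : PerpC H e f i 0 :=
  fun _ _ => ⟨h.zero_left _, h.zero_left _⟩

include h in
theorem perpC_add {f : ℕ → V} {i : ℕ} {z z' : V} (hz : PerpC H e f i z) (hz' : PerpC H e f i z') :
    PerpC H e f i (z + z') := by
  intro j hj
  rw [h.add_left, h.add_left, (hz j hj).1, (hz j hj).2, (hz' j hj).1, (hz' j hj).2, add_zero]
  exact ⟨rfl, rfl⟩

include h in
theorem perpC_neg {f : ℕ → V} {i : ℕ} {z : V} (hz : PerpC H e f i z) : PerpC H e f i (-z) := by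
  intro j hj
  rw [h.neg_left, h.neg_left, (hz j hj).1, (hz j hj).2, neg_zero]
  exact ⟨rfl, rfl⟩

include h in
theorem perpC_smul {f : ℕ → V} {i : ℕ} {z : V} (a : F) (hz : PerpC H e f i z) :
    PerpC H e f i (a • z) := by
  intro j hj
  rw [h.smul_left, h.smul_left, (hz j hj).1, (hz j hj).2, mul_zero]
  exact ⟨rfl, rfl⟩

/-- the Heisenberg group `Q_i` -/
def Qc (f : ℕ → V) (i : ℕ) : Subgroup (V ≃ₗ[F] V) where
  carrier := QcSet h hee f i
  one_mem' := by
    refine ⟨0, 0, h.zero_left _, perpC_zero h f i, ?_, ?_⟩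
    · rw [map_zero, h.zero_left, add_zero, add_zero]
    · rw [eich_zero_zero]
  mul_mem' := by
    rintro a b ⟨z, c, hz, hpz, hc, rfl⟩ ⟨z', c', hz', hpz', hc', rfl⟩
    refine ⟨z + z', c + c' - H z' z, by rw [h.add_left, hz, hz', add_zero],
      perpC_add h hpz hpz', ?_, eich_mul h _ _ _ _ _ _ _ _⟩
    have h1 : H z z' = σ (H z' z) := h.symm z' z
    rw [h.add_left, h.add_right, h.add_right, map_sub, map_add, h1]
    linear_combination hc + hc'
  inv_mem' := by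
    rintro a ⟨z, c, hz, hpz, hc, rfl⟩
    refine ⟨-z, σ c, by rw [h.neg_left, hz, neg_zero], perpC_neg h hpz, ?_,
      eich_inv h _ _ _ _ _ hc⟩
    have h1 : H z z = σ (H z z) := h.symm z z
    have h2 : σ (c + σ c + H z z) = 0 := by rw [hc, map_zero]
    rw [map_add, map_add, ← h1] at h2
    rw [h.neg_left, herm_neg_right' h, neg_neg]
    exact h2

theorem mem_Qc {f : ℕ → V} {i : ℕ} {g : V ≃ₗ[F] V} :
    g ∈ Qc h hee f i ↔ ∃ (z : V) (c : F) (hz : H z (e i) = 0), PerpC H e f i z ∧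
      c + σ c + H z z = 0 ∧ g = eich h (e i) z c (hee i i) hz := Iff.rfl

end defs

end Cfsg.Agent.Lib.Helper1.SUMin
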