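import Mathlib
import Cfsg.Agent.Lib.Helper1.SUMin.GeoDefs

set_option autoImplicit false

/-!
Minimal degree of `SU_n(q)` (S2334, S2335): elementary facts on the root elements `zc i a`,
`yc i β` and on the product `rr i (a, b, β) = zc (i-1) a * zc i b * yc i β`.
-/

namespace Cfsg.Agent.Lib.Helper1.SUMin

open Module Cfsg.Agent.Lib.Helper2 Cfsg.Agent.Lib.Helper2.IsomDecomp Cfsg.Agent.Lib.Helper2.UT
  Cfsg.Agent.Lib.Helper5.PSLCoset Cfsg.Agent.Lib.Helper1.SUR Cfsg.Agent.Lib.Helper1.SUT

variable {F : Type*} [Field F] {σ : F ≃+* F} {V : Type*} [AddCommGroup V] [Module F V]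
  {H : V → V → F} (h : IsHerm σ H) {e : ℕ → V} (hee : ∀ i j, H (e i) (e j) = 0)

theorem zc_apply (i : ℕ) (a : F) (x : V) :
    zc h hee i a x = x + (a * H x (e i)) • e i := by
  unfold zc
  rw [tv_apply]

theorem yc_apply (i : ℕ) (β : F) (x : V) :
    yc h hee i β x = x + (β * H x (e (i - 1))) • e i - (σ β * H x (e i)) • e (i - 1) := by
  unfold yc
  rw [eich_apply, h.smul_right]
  module

theorem zc_mem_isom (i : ℕ) {a : F} (ha : σ a = -a) : zc h hee i a ∈ isom H :=
  tv_mem_isom h _ _ _ ha

theorem det_zc (i : ℕ) (a : F) : LinearEquiv.det (zc h hee i a) = 1 := det_tv h _ _ _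

theorem yc_mem_isom (i : ℕ) (β : F) : yc h hee i β ∈ isom H := by
  unfold yc
  apply eich_mem_isom
  rw [h.smul_left, h.smul_right, hee, mul_zero, mul_zero, map_zero, add_zero, add_zero]

theorem det_yc (i : ℕ) (β : F) : LinearEquiv.det (yc h hee i β) = 1 := det_eich h _ _ _ _ _

theorem zc_add (i : ℕ) (a b : F) : zc h hee i (a + b) = zc h hee i a * zc h hee i b := by
  apply LinearEquiv.ext
  intro x
  rw [LinearEquiv.mul_apply, zc_apply, zc_apply, zc_apply, h.add_left, h.smul_left, hee]
  module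

theorem zc_zero (i : ℕ) : zc h hee i 0 = 1 := by
  apply LinearEquiv.ext
  intro x
  rw [zc_apply]
  simp

theorem yc_add (i : ℕ) (a b : F) : yc h hee i (a + b) = yc h hee i a * yc h hee i b := by
  apply LinearEquiv.ext
  intro x
  rw [LinearEquiv.mul_apply, yc_apply, yc_apply, yc_apply]
  simp only [h.add_left, h.sub_left, h.smul_left, hee, mul_zero, add_zero, sub_zero, map_add]
  module

theorem zc_comm (i j : ℕ) (a b : F) : zc h hee i a * zc h hee j b = zc h hee j b * zc h hee i a := by
  apply LinearEquiv.ext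
  intro x
  rw [LinearEquiv.mul_apply, LinearEquiv.mul_apply, zc_apply, zc_apply, zc_apply, zc_apply]
  simp only [h.add_left, h.smul_left, hee, mul_zero, add_zero]
  module

theorem zc_yc_comm (i j : ℕ) (a β : F) :
    zc h hee j a * yc h hee i β = yc h hee i β * zc h hee j a := by
  apply LinearEquiv.ext
  intro x
  rw [LinearEquiv.mul_apply, LinearEquiv.mul_apply, zc_apply, zc_apply, yc_apply, yc_apply]
  simp only [h.add_left, h.sub_left, h.smul_left, hee, mul_zero, add_zero, sub_zero]
  module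

/-- conjugation of a root element by an isometry scaling `e i` -/
theorem conj_zc_of_smul {g : V ≃ₗ[F] V} (hg : g ∈ isom H) (i : ℕ) {κ : F}
    (hgi : g (e i) = κ • e i) (a : F) :
    g * zc h hee i a * g⁻¹ = zc h hee i (κ * σ κ * a) := by
  unfold zc
  rw [conj_tv h hg]
  apply LinearEquiv.ext
  intro x
  rw [tv_apply, tv_apply, hgi, h.smul_right, smul_smul]
  module

/-- an isometry fixing `e i` commutes with `zc i a` -/
theorem comm_zc_of_fix {g : V ≃ₗ[F] V} (hg : g ∈ isom H) (i : ℕ) (hgi : g (e i) = e i) (a : F) :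
    g * zc h hee i a = zc h hee i a * g := by
  have h1 := conj_zc_of_smul h hee hg i (κ := 1) (by rw [hgi, one_smul]) a
  rw [map_one, one_mul, one_mul] at h1
  calc g * zc h hee i a = (g * zc h hee i a * g⁻¹) * g := by group
    _ = zc h hee i a * g := by rw [h1]

/-- the element `zc (i-1) a * zc i b * yc i β` -/
noncomputable def rr (i : ℕ) (x : F × F × F) : V ≃ₗ[F] V :=
  zc h hee (i - 1) x.1 * zc h hee i x.2.1 * yc h hee i x.2.2

theorem rr_apply (i : ℕ) (a b β : F) (x : V) :
    rr h hee i (a, b, β) x =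
      x + (a * H x (e (i - 1)) - σ β * H x (e i)) • e (i - 1) +
        (β * H x (e (i - 1)) + b * H x (e i)) • e i := by
  unfold rr
  rw [LinearEquiv.mul_apply, LinearEquiv.mul_apply, yc_apply, zc_apply, zc_apply]
  simp only [h.add_left, h.sub_left, h.smul_left, hee, mul_zero, add_zero, sub_zero]
  module

/-- conjugation of `rr i (a, b, β)` by an isometry: the same formula along `g e_{i-1}`, `g e_i` -/
theorem conj_rr_apply {g : V ≃ₗ[F] V} (hg : g ∈ isom H) (i : ℕ) (a b β : F) (x : V) :
    (g * rr h hee i (a, b, β) * g⁻¹) x =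
      x + (a * H x (g (e (i - 1))) - σ β * H x (g (e i))) • g (e (i - 1)) +
        (β * H x (g (e (i - 1))) + b * H x (g (e i))) • g (e i) := by
  have h1 : g (g⁻¹ x) = x := by
    rw [← LinearEquiv.mul_apply, mul_inv_cancel]
    rfl
  have h2 : ∀ w, H (g⁻¹ x) w = H x (g w) := by
    intro w
    rw [← hg (g⁻¹ x) w, h1]
  rw [LinearEquiv.mul_apply, LinearEquiv.mul_apply, rr_apply, map_add, map_add, map_smul, map_smul,
    h1, h2, h2]

end Cfsg.Agent.Lib.Helper1.SUMin
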