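import Mathlib
import Cfsg.Agent.Lib.Helper1.SUMin.Geo1
import Cfsg.Agent.Lib.Lead.SUTN

set_option autoImplicit false

/-!
Minimal degree of `SU_n(q)` (S2334, S2335): conjugation of `rr (k+1) (a, b, β)` by the Weyl element
swapping `e_k, e_{k+1}` and by a shear `e_k ↦ e_k + t e_{k+1}`; the torus elements.
-/

namespace Cfsg.Agent.Lib.Helper1.SUMin

open Module Cfsg.Agent.Lib.Helper2 Cfsg.Agent.Lib.Helper2.IsomDecomp Cfsg.Agent.Lib.Helper2.UT
  Cfsg.Agent.Lib.Helper5.PSLCoset Cfsg.Agent.Lib.Helper1.SUR Cfsg.Agent.Lib.Helper1.SUT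

variable {F : Type*} [Field F] {σ : F ≃+* F} {V : Type*} [AddCommGroup V] [Module F V]
  {H : V → V → F} (h : IsHerm σ H) {e : ℕ → V} (hee : ∀ i j, H (e i) (e j) = 0)

theorem inv_apply_eq_of {g : V ≃ₗ[F] V} {v w : V} (hgw : g w = v) : g⁻¹ v = w := by
  rw [← hgw, ← LinearEquiv.mul_apply, inv_mul_cancel]
  rfl

/-- conjugation by an isometry with `e_k ↦ -e_{k+1}`, `e_{k+1} ↦ e_k` -/
theorem conj_rr_swap (hσσ : ∀ x : F, σ (σ x) = x) {w : V ≃ₗ[F] V} (hw : w ∈ isom H) (k : ℕ)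
    (h1 : w (e k) = -e (k + 1)) (h2 : w (e (k + 1)) = e k) (a b β : F) :
    w * rr h hee (k + 1) (a, b, β) * w⁻¹ = rr h hee (k + 1) (b, a, σ β) := by
  apply LinearEquiv.ext
  intro x
  rw [conj_rr_apply h hee hw, rr_apply]
  have e1 : e (k + 1 - 1) = e k := rfl
  rw [e1, h1, h2, herm_neg_right' h, hσσ]
  module

/-- conjugation by an isometry with `e_k ↦ e_k + t e_{k+1}`, `e_{k+1} ↦ e_{k+1}` -/
theorem conj_rr_shear {u : V ≃ₗ[F] V} (hu : u ∈ isom H) (k : ℕ) {t : F}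
    (h1 : u (e k) = e k + t • e (k + 1)) (h2 : u (e (k + 1)) = e (k + 1)) {a : F}
    (ha : σ a = -a) (b β : F) :
    u * rr h hee (k + 1) (a, b, β) * u⁻¹ =
      rr h hee (k + 1) (a, b + t * σ t * a + β * σ t - t * σ β, β + a * t) := by
  apply LinearEquiv.ext
  intro x
  rw [conj_rr_apply h hee hu, rr_apply]
  have e1 : e (k + 1 - 1) = e k := rfl
  rw [e1, h1, h2, h.add_right, h.smul_right, map_add, map_mul, ha]
  module

/-- the combined conjugation -/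
theorem conj_rr_swap_shear (hσσ : ∀ x : F, σ (σ x) = x) {w u : V ≃ₗ[F] V} (hw : w ∈ isom H)
    (hu : u ∈ isom H) (k : ℕ) {t : F}
    (hw1 : w (e k) = -e (k + 1)) (hw2 : w (e (k + 1)) = e k)
    (hu1 : u (e k) = e k + t • e (k + 1)) (hu2 : u (e (k + 1)) = e (k + 1)) {a : F}
    (ha : σ a = -a) (b β : F) :
    (w * u) * rr h hee (k + 1) (a, b, β) * (w * u)⁻¹ =
      rr h hee (k + 1) (b + t * σ t * a + β * σ t - t * σ β, a, σ β - a * σ t) := by
  have h1 := conj_rr_shear h hee hu k hu1 hu2 ha b β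
  have h2 := conj_rr_swap h hee hσσ hw k hw1 hw2 a (b + t * σ t * a + β * σ t - t * σ β) (β + a * t)
  have h3 : σ (β + a * t) = σ β - a * σ t := by
    rw [map_add, map_mul, ha]
    ring
  rw [h3] at h2
  rw [← h2, ← h1]
  group

end Cfsg.Agent.Lib.Helper1.SUMin
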