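import Mathlib
import Cfsg.Agent.Lib.Helper1.SUMin.Geo2

set_option autoImplicit false

/-!
Minimal degree of `SU_n(q)` (S2334, S2335): the concrete Weyl element, shears and torus elements
attached to hyperbolic pairs.
-/

namespace Cfsg.Agent.Lib.Helper1.SUMin

open Module Cfsg.Agent.Lib.Helper2 Cfsg.Agent.Lib.Helper2.IsomDecomp Cfsg.Agent.Lib.Helper2.UT
  Cfsg.Agent.Lib.Helper5.PSLCoset Cfsg.Agent.Lib.Helper1.SUR Cfsg.Agent.Lib.Helper1.SUT

variable {F : Type*} [Field F] {σ : F ≃+* F} {V : Type*} [AddCommGroup V] [Module F V]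
  {H : V → V → F} (h : IsHerm σ H) {m : ℕ} {e f : ℕ → V} (hp : HPairs H m e f)

include h hp

/-- the Weyl element `nW k 1`: `e_k ↦ -e_{k+1}`, `e_{k+1} ↦ e_k`, the other `e_j` fixed -/
theorem exists_swap (k : ℕ) (hk : k + 1 < m) :
    ∃ w : V ≃ₗ[F] V, w ∈ isom H ∧ LinearEquiv.det w = 1 ∧ w (e k) = -e (k + 1) ∧
      w (e (k + 1)) = e k ∧ ∀ j, j < m → j ≠ k → j ≠ k + 1 → w (e j) = e j := by
  refine ⟨nW h hp k 1, nW_mem_isom h hp k 1, det_nW h hp k 1, ?_, ?_, ?_⟩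
  · rw [nW_e h hp k hk one_ne_zero, map_one, inv_one, neg_smul, one_smul]
  · rw [nW_e_succ h hp k hk one_ne_zero, map_one, one_smul]
  · intro j hj hjk hjk1
    apply nW_fix
    · exact hp.ee j k hj (by omega)
    · exact hp.ee j (k + 1) hj hk
    · rw [hp.ef j k hj (by omega), if_neg hjk]
    · rw [hp.ef j (k + 1) hj hk, if_neg hjk1]

/-- the shear `e_k ↦ e_k + t e_{k+1}` fixing the other `e_j` -/
theorem exists_shear_elt (hσσ : ∀ x : F, σ (σ x) = x) (k : ℕ) (hk : k + 1 < m) (t : F) :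
    ∃ u : V ≃ₗ[F] V, u ∈ isom H ∧ LinearEquiv.det u = 1 ∧ u (e k) = e k + t • e (k + 1) ∧
      ∀ j, j < m → j ≠ k → u (e j) = e j := by
  have hk0 : k < m := by omega
  have hz : H ((-σ t) • f k) (e (k + 1)) = 0 := by
    rw [h.smul_left, hp.fe k (k + 1) hk0 hk, if_neg (by omega), mul_zero]
  refine ⟨eich h (e (k + 1)) ((-σ t) • f k) 0 (hp.ee _ _ hk hk) hz, ?_, det_eich h _ _ _ _ _, ?_, ?_⟩
  · apply eich_mem_isom
    rw [h.smul_left, h.smul_right, hp.ff k k hk0 hk0, mul_zero, mul_zero, map_zero, add_zero,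
      add_zero]
  · rw [eich_apply, hp.ee k (k + 1) hk0 hk, h.smul_right, hp.ef k k hk0 hk0, if_pos rfl, map_neg,
      hσσ]
    module
  · intro j hj hjk
    apply eich_apply_of_orth
    · exact hp.ee j (k + 1) hj hk
    · rw [h.smul_right, hp.ef j k hj hk0, if_neg hjk, mul_zero]

/-- the torus element `nW k β * (nW k 1)⁻¹`: `e_k ↦ σ β e_k`, `e_{k+1} ↦ (σ β)⁻¹ e_{k+1}` -/
theorem exists_tor (k : ℕ) (hk : k + 1 < m) {β : F} (hβ : β ≠ 0) :
    ∃ g : V ≃ₗ[F] V, g ∈ isom H ∧ LinearEquiv.det g = 1 ∧ g (e k) = σ β • e k ∧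
      g (e (k + 1)) = (σ β)⁻¹ • e (k + 1) ∧ ∀ j, j < m → j ≠ k → j ≠ k + 1 → g (e j) = e j := by
  obtain ⟨w, hw, hwd, hw1, hw2, hw3⟩ := exists_swap h hp k hk
  refine ⟨nW h hp k β * w⁻¹, (isom H).mul_mem (nW_mem_isom h hp k β) ((isom H).inv_mem hw), ?_,
    ?_, ?_, ?_⟩
  · rw [map_mul, map_inv, hwd, det_nW, inv_one, one_mul]
  · rw [LinearEquiv.mul_apply, inv_apply_eq_of hw2, nW_e_succ h hp k hk hβ]
  · have h1 : w (-e k) = e (k + 1) := by rw [map_neg, hw1, neg_neg]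
    rw [LinearEquiv.mul_apply, inv_apply_eq_of h1, map_neg, nW_e h hp k hk hβ]
    module
  · intro j hj hjk hjk1
    rw [LinearEquiv.mul_apply, inv_apply_eq_of (hw3 j hj hjk hjk1)]
    apply nW_fix
    · exact hp.ee j k hj (by omega)
    · exact hp.ee j (k + 1) hj hk
    · rw [hp.ef j k hj (by omega), if_neg hjk]
    · rw [hp.ef j (k + 1) hj hk, if_neg hjk1]

/-- torus elements for `m ≥ 2`: scale `e_i` by a prescribed `κ ≠ 0`, every `e_j` by some nonzero
scalar -/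
theorem exists_torus (hσσ : ∀ x : F, σ (σ x) = x) (hm : 2 ≤ m) (i : ℕ) (hi : i < m) {κ : F}
    (hκ : κ ≠ 0) :
    ∃ g : V ≃ₗ[F] V, g ∈ isom H ∧ LinearEquiv.det g = 1 ∧
      ∃ r : ℕ → F, (∀ j, r j ≠ 0) ∧ (∀ j, j < m → g (e j) = r j • e j) ∧ r i = κ := by
  by_cases hi1 : i + 1 < m
  · have hβ : σ κ ≠ 0 := by simpa using hκ
    obtain ⟨g, hg, hgd, hg1, hg2, hg3⟩ := exists_tor h hp i hi1 hβ
    rw [hσσ] at hg1 hg2
    refine ⟨g, hg, hgd, fun j => if j = i then κ else if j = i + 1 then κ⁻¹ else 1, ?_, ?_, ?_⟩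
    · intro j
      beta_reduce
      split_ifs
      · exact hκ
      · exact inv_ne_zero hκ
      · exact one_ne_zero
    · intro j hj
      beta_reduce
      by_cases hji : j = i
      · subst hji
        rw [if_pos rfl, hg1]
      · by_cases hji1 : j = i + 1
        · subst hji1
          rw [if_neg hji, if_pos rfl, hg2]
        · rw [if_neg hji, if_neg hji1, one_smul, hg3 j hj hji hji1]
    · beta_reduce
      rw [if_pos rfl]
  · obtain ⟨k, rfl⟩ : ∃ k, i = k + 1 := ⟨i - 1, by omega⟩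
    have hk1 : k + 1 < m := hi
    have hβ : σ κ⁻¹ ≠ 0 := by simpa using hκ
    obtain ⟨g, hg, hgd, hg1, hg2, hg3⟩ := exists_tor h hp k hk1 hβ
    rw [hσσ] at hg1 hg2
    rw [inv_inv] at hg2
    refine ⟨g, hg, hgd, fun j => if j = k then κ⁻¹ else if j = k + 1 then κ else 1, ?_, ?_, ?_⟩
    · intro j
      beta_reduce
      split_ifs
      · exact inv_ne_zero hκ
      · exact hκ
      · exact one_ne_zero
    · intro j hj
      beta_reduce
      by_cases hji : j = k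
      · subst hji
        rw [if_pos rfl, hg1]
      · by_cases hji1 : j = k + 1
        · subst hji1
          rw [if_neg hji, if_pos rfl, hg2]
        · rw [if_neg hji, if_neg hji1, one_smul, hg3 j hj hji hji1]
    · beta_reduce
      rw [if_neg (by omega), if_pos rfl]

end Cfsg.Agent.Lib.Helper1.SUMin
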