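import Mathlib
import Cfsg.Agent.Lib.Helper1.SUMin.FieldDefs

set_option autoImplicit false

/-!
Minimal degree of `SU_n(q)` (S2334, S2335): the additive automorphism
`(a, b, β) ↦ (b + t σ(t) a + β σ(t) - t σ(β), a, σ(β) - a σ(t))` of `S × S × F` (`S` the skew
elements) describing the conjugation of the abelian group `R` by the swap-and-shear element, and the
scaling bijections of `S`.
-/

namespace Cfsg.Agent.Lib.Helper1.SUMin

variable {F : Type*} [Field F] {σ : F ≃+* F}

theorem tau_skew (hσσ : ∀ x : F, σ (σ x) = x) (t : F) (a b : skewS σ) (β : F) :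
    σ ((b : F) + t * σ t * (a : F) + β * σ t - t * σ β) =
      -((b : F) + t * σ t * (a : F) + β * σ t - t * σ β) := by
  simp only [map_add, map_sub, map_mul, hσσ, skewS_prop]
  ring

/-- the underlying additive map -/
noncomputable def tauHom (hσσ : ∀ x : F, σ (σ x) = x) (t : F) :
    (skewS σ × skewS σ × F) →+ (skewS σ × skewS σ × F) where
  toFun x := (⟨(x.2.1 : F) + t * σ t * (x.1 : F) + x.2.2 * σ t - t * σ x.2.2,
    tau_skew hσσ t x.1 x.2.1 x.2.2⟩, x.1, σ x.2.2 - (x.1 : F) * σ t)
  map_zero' := by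
    apply Prod.ext
    · apply Subtype.ext
      simp
    · simp
  map_add' := by
    intro x y
    apply Prod.ext
    · apply Subtype.ext
      simp only [Prod.fst_add, Prod.snd_add, AddSubgroup.coe_add, map_add]
      ring
    · apply Prod.ext
      · rfl
      · simp only [Prod.fst_add, Prod.snd_add, AddSubgroup.coe_add, map_add]
        ring

theorem tauHom_apply (hσσ : ∀ x : F, σ (σ x) = x) (t : F) (a b : skewS σ) (β : F) :
    tauHom hσσ t (a, b, β) =
      (⟨(b : F) + t * σ t * (a : F) + β * σ t - t * σ β, tau_skew hσσ t a b β⟩, a,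
        σ β - (a : F) * σ t) := rfl

theorem tauHom_injective (hσσ : ∀ x : F, σ (σ x) = x) (t : F) :
    Function.Injective (tauHom (σ := σ) hσσ t) := by
  rw [injective_iff_map_eq_zero]
  rintro ⟨a, b, β⟩ hx
  rw [tauHom_apply, Prod.mk_eq_zero, Prod.mk_eq_zero] at hx
  obtain ⟨h1, h2, h3⟩ := hx
  subst h2
  have hβ : β = 0 := by
    have : σ β = 0 := by simpa using h3
    simpa using this
  subst hβ
  have hb : (b : F) = 0 := by
    have := congrArg Subtype.val h1
    simpa using this
  have hb' : b = 0 := Subtype.ext hb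
  rw [hb']
  rfl

/-- the additive automorphism `τ` -/
noncomputable def tauR [Finite F] (hσσ : ∀ x : F, σ (σ x) = x) (t : F) :
    (skewS σ × skewS σ × F) ≃+ (skewS σ × skewS σ × F) :=
  AddEquiv.ofBijective (tauHom hσσ t)
    (Finite.injective_iff_bijective.1 (tauHom_injective hσσ t))

theorem tauR_apply [Finite F] (hσσ : ∀ x : F, σ (σ x) = x) (t : F) (a b : skewS σ) (β : F) :
    tauR hσσ t (a, b, β) =
      (⟨(b : F) + t * σ t * (a : F) + β * σ t - t * σ β, tau_skew hσσ t a b β⟩, a,
        σ β - (a : F) * σ t) := rfl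

/-- scaling by a nonzero fixed element as a bijection of the skew elements -/
noncomputable def scEquiv (σ : F ≃+* F) (r : F) (hr : σ r = r) (hr0 : r ≠ 0) :
    skewS σ ≃ skewS σ where
  toFun := sc σ r
  invFun := sc σ r⁻¹
  left_inv := by
    intro a
    have hr' : σ r⁻¹ = r⁻¹ := by rw [map_inv₀, hr]
    apply Subtype.ext
    rw [sc_val hr', sc_val hr, ← mul_assoc, inv_mul_cancel₀ hr0, one_mul]
  right_inv := by
    intro a
    have hr' : σ r⁻¹ = r⁻¹ := by rw [map_inv₀, hr]
    apply Subtype.ext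
    rw [sc_val hr, sc_val hr', ← mul_assoc, mul_inv_cancel₀ hr0, one_mul]

theorem scEquiv_apply (r : F) (hr : σ r = r) (hr0 : r ≠ 0) (a : skewS σ) :
    scEquiv σ r hr hr0 a = sc σ r a := rfl

end Cfsg.Agent.Lib.Helper1.SUMin
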