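import Mathlib
import Cfsg.Agent.Lib.Helper1.SUMin.Geo3
import Cfsg.Agent.Lib.Helper1.SUMin.Tau
import Cfsg.Agent.Lib.Helper6.SUMinB
import Cfsg.Agent.Lib.Helper6.SUMinCard
import Cfsg.Agent.Lib.Helper7.SUMinG2d
import Cfsg.Agent.Lib.Helper2.UT12
import Cfsg.Agent.Lib.Helper2.UT9
import Cfsg.Agent.Lib.Lead.SURField
import Cfsg.Agent.Lib.Helper4.Characters
import Cfsg.Agent.Lib.Lead.SUMinA3
import Cfsg.Agent.Lib.Helper4.SUMinG2abc
import Cfsg.Agent.Lib.Helper7.SUMinG2e
import Cfsg.Agent.Lib.Helper6.SUMinG5a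
import Cfsg.Agent.Lib.Helper6.SUMinG5b

set_option autoImplicit false

/-!
Minimal degree of `SU_n(q)` (S2334, S2335): assembly.  The abstract chain bound applied to the
group `T h` generated by the unitary transvections of a Hermitian space with `m` hyperbolic pairs.
-/

namespace Cfsg.Agent.Lib.Helper1.SUMin

open Module Cfsg Cfsg.Agent.Lib.Helper2 Cfsg.Agent.Lib.Helper2.IsomDecomp Cfsg.Agent.Lib.Helper2.UT
  Cfsg.Agent.Lib.Helper5.PSLCoset Cfsg.Agent.Lib.Helper1.SUR Cfsg.Agent.Lib.Helper1.SUT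
  Cfsg.Agent.Lib.Helper4

universe u

variable {F : Type u} [Field F] [Fintype F] {σ : F ≃+* F} {V : Type u} [AddCommGroup V]
  [Module F V] [FiniteDimensional F V] {H : V → V → F}

theorem finite_linearEquiv : Finite (V ≃ₗ[F] V) := by
  haveI : Finite V := Module.finite_of_finite F
  exact Finite.of_injective (fun g : V ≃ₗ[F] V => (g : V → V)) DFunLike.coe_injective

theorem min_degree_T (h : IsHerm σ H) (hσ : orderOf σ = 2)
    (hnd : ∀ v, (∀ w, H v w = 0) → v = 0) (hdim : 3 ≤ finrank F V)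
    (hbig : finrank F V = 3 → ∃ c : F, σ c = c ∧ c ≠ 0 ∧ c ≠ 1) {q : ℕ}
    (hF : Fintype.card F = q ^ 2) {m : ℕ} {e f : ℕ → V} (hp : HPairs H m e f)
    (hee : ∀ i j, H (e i) (e j) = 0) {χ : ↥(T h) → ℂ} (hχ : IsIrrCharacter ↥(T h) χ)
    (hne : χ 1 ≠ 1) :
    ∃ k : ℕ, χ 1 = k ∧ ∑ i ∈ Finset.range m, (q - 1) * q ^ (finrank F V - 2 * i - 2) ≤ k := by
  classical
  haveI : Finite (V ≃ₗ[F] V) := finite_linearEquiv
  letI : Fintype ↥(T h) := Fintype.ofFinite _
  have hσσ : ∀ x : F, σ (σ x) = x := sigma_sigma_of_order hσ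
  have memT : ∀ g : V ≃ₗ[F] V, g ∈ isom H → LinearEquiv.det g = 1 → g ∈ T h := fun g hg hd =>
    mem_T_main hσ (finrank F V) (by omega) V H h hnd rfl hbig g hg hd
  have hQT : ∀ i, Qc h hee f i ≤ T h := by
    intro i g hg
    obtain ⟨z, c, hz, -, hc, rfl⟩ := (mem_Qc h hee).1 hg
    exact memT _ (eich_mem_isom h _ _ _ _ _ hc) (det_eich h _ _ _ _ _)
  -- the maps
  set z : ℕ → skewS σ → ↥(T h) := fun i a =>
    ⟨zc h hee i (a : F), tv_mem_T h _ _ _ a.2⟩ with hzdef
  set y : ℕ → F → ↥(T h) := fun i β =>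
    ⟨yc h hee i β, memT _ (yc_mem_isom h hee i β) (det_yc h hee i β)⟩ with hydef
  have hzval : ∀ i a, ((z i a : ↥(T h)) : V ≃ₗ[F] V) = zc h hee i (a : F) := fun _ _ => rfl
  have hyval : ∀ i β, ((y i β : ↥(T h)) : V ≃ₗ[F] V) = yc h hee i β := fun _ _ => rfl
  have hcardS : Fintype.card (skewS σ) = q := card_skewS hσ hF
  have hχc : IsCharacter ↥(T h) χ := isCharacter_of_irr hχ
  have key := chain_bound (S := skewS σ) (Y := F) hχc m (fun i => q ^ (finrank F V - 2 * i - 2))
    z y ?_ ?_ ?_ ?_ ?_ ?_ ?_ ?_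
  · rw [hcardS] at key
    exact key
  · -- hz
    intro i a b
    apply Subtype.ext
    rw [Subgroup.coe_mul, hzval, hzval, hzval, AddSubgroup.coe_add, zc_add]
  · -- hy
    intro i a b
    apply Subtype.ext
    rw [Subgroup.coe_mul, hyval, hyval, hyval, yc_add]
  · -- hzz
    intro i j a b _ _
    apply Subtype.ext
    rw [Subgroup.coe_mul, Subgroup.coe_mul, hzval, hzval, zc_comm]
  · -- hzy
    intro i j a β _ _
    apply Subtype.ext
    rw [Subgroup.coe_mul, Subgroup.coe_mul, hzval, hyval, zc_yc_comm]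
  · -- h0
    intro hm
    have he0 : e 0 ≠ 0 := by
      intro h0
      have := hp.ef 0 0 hm hm
      rw [h0, h.zero_left, if_pos rfl] at this
      exact zero_ne_one this
    obtain ⟨c, hc, hcne⟩ := exists_tv_ne h hσ hnd hdim (hee 0 0) he0 hχ hne
    exact ⟨⟨c, hc⟩, hcne⟩
  · -- hQ
    intro i hi
    refine ⟨(Qc h hee f i).subgroupOf (T h), ?_, ?_, ?_, ?_, ?_⟩
    · intro g hg j hj a
      apply Subtype.ext
      rw [Subgroup.coe_mul, Subgroup.coe_mul, hzval]
      exact Qc_comm_zc h hee i j hj (Subgroup.mem_subgroupOf.1 hg) _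
    · intro c
      rw [Subgroup.mem_subgroupOf, hzval]
      exact zc_mem_Qc h hee i c.2
    · intro g hg c
      apply Subtype.ext
      rw [Subgroup.coe_mul, Subgroup.coe_mul, hzval]
      exact Qc_central h hee i (Subgroup.mem_subgroupOf.1 hg) _
    · intro g hg hgne c
      have hne' : ∀ c' : F, σ c' = -c' → (g : V ≃ₗ[F] V) ≠ zc h hee i c' := by
        intro c' hc' hgc
        exact hgne ⟨c', hc'⟩ (Subtype.ext hgc)
      obtain ⟨x, hx, hxg⟩ := Qc_commutator h hp hee hσ hnd i hi (Subgroup.mem_subgroupOf.1 hg)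
        hne' c.2
      refine ⟨⟨x, hQT i hx⟩, Subgroup.mem_subgroupOf.2 hx, ?_⟩
      apply Subtype.ext
      rw [Subgroup.coe_mul, Subgroup.coe_mul, Subgroup.coe_mul, Subgroup.coe_inv, hzval]
      exact hxg
    · have h1 : Nat.card ↥((Qc h hee f i).subgroupOf (T h)) = Nat.card ↥(Qc h hee f i) :=
        Nat.card_congr (Subgroup.subgroupOfEquivOfLe (hQT i)).toEquiv
      rw [h1, hcardS]
      exact card_Qc_ge h hp hee hσ hF i hi
  · -- hT
    intro i hi ψ ψ' hψ hψ'
    obtain ⟨κ, hκ0, hκ⟩ := exists_norm_scale hσ ψ ψ' hψ hψ'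
    -- the torus element
    obtain ⟨g, hgT, r, hr0, hgr, hri⟩ : ∃ g : V ≃ₗ[F] V, g ∈ T h ∧ ∃ r : ℕ → F,
        (∀ j, r j ≠ 0) ∧ (∀ j, j < m → g (e j) = r j • e j) ∧ r i = κ := by
      by_cases hm2 : 2 ≤ m
      · obtain ⟨g, hg, hgd, r, hr0, hgr, hri⟩ := exists_torus h hp hσσ hm2 i hi hκ0
        exact ⟨g, memT g hg hgd, r, hr0, hgr, hri⟩
      · have hi0 : i = 0 := by omega
        subst hi0
        have he0 : e 0 ≠ 0 := by
          intro h0
          have := hp.ef 0 0 hi hi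
          rw [h0, h.zero_left, if_pos rfl] at this
          exact zero_ne_one this
        have hκe : H (κ • e 0) (κ • e 0) = 0 := by
          rw [h.smul_left, h.smul_right, hee, mul_zero, mul_zero]
        obtain ⟨t, ht, hte⟩ := exists_T_map_iso hσ h hnd hdim (hee 0 0) hκe he0
          (smul_ne_zero hκ0 he0)
        refine ⟨t, ht, fun _ => κ, fun _ => hκ0, ?_, rfl⟩
        intro j hj
        have hj0 : j = 0 := by omega
        subst hj0
        exact hte
    have hg : g ∈ isom H := T_le_isom h hgT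
    have hN : ∀ j, σ (r j * σ (r j)) = r j * σ (r j) := by
      intro j
      rw [map_mul, hσσ, mul_comm]
    have hN0 : ∀ j, r j * σ (r j) ≠ 0 := by
      intro j
      have : σ (r j) ≠ 0 := by simpa using hr0 j
      exact mul_ne_zero (hr0 j) this
    refine ⟨⟨g, hgT⟩, fun j => scEquiv σ (r j * σ (r j)) (hN j) (hN0 j), ?_, ?_⟩
    · intro j hj a
      apply Subtype.ext
      rw [Subgroup.coe_mul, Subgroup.coe_mul, Subgroup.coe_inv, hzval, hzval, scEquiv_apply,
        sc_val (hN j)]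
      exact conj_zc_of_smul h hee hg j (hgr j (by omega)) _
    · intro a
      rw [scEquiv_apply, hri]
      exact hκ a
  · -- hR
    intro i hi0 hi ν hν
    obtain ⟨k, rfl⟩ : ∃ k, i = k + 1 := ⟨i - 1, by omega⟩
    obtain ⟨t, ht⟩ := exists_shear hσ ν hν
    obtain ⟨w, hw, hwd, hw1, hw2, hw3⟩ := exists_swap h hp k hi
    obtain ⟨u, hu, hud, hu1, hu3⟩ := exists_shear_elt h hp hσσ k hi t
    have hu2 : u (e (k + 1)) = e (k + 1) := hu3 (k + 1) hi (by omega)
    have hwu : w * u ∈ isom H := (isom H).mul_mem hw hu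
    have hwud : LinearEquiv.det (w * u) = 1 := by rw [map_mul, hwd, hud, one_mul]
    refine ⟨⟨w * u, memT _ hwu hwud⟩, tauR hσσ t, ?_, ?_, ?_, ?_⟩
    · intro j hj a
      apply Subtype.ext
      rw [Subgroup.coe_mul, Subgroup.coe_mul, hzval]
      apply comm_zc_of_fix h hee hwu
      rw [LinearEquiv.mul_apply, hu3 j (by omega) (by omega), hw3 j (by omega) (by omega) (by omega)]
    · rintro ⟨a, b, β⟩
      apply Subtype.ext
      rw [tauR_apply]
      simp only [Subgroup.coe_mul, Subgroup.coe_inv, hzval, hyval]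
      exact conj_rr_swap_shear h hee hσσ hw hu k hw1 hw2 hu1 hu2 a.2 (b : F) β
    · intro a
      rw [tauR_apply]
      have h1 := ht a
      have hNt : σ (t * σ t) = t * σ t := by rw [map_mul, hσσ, mul_comm]
      have e1 : (⟨((0 : skewS σ) : F) + t * σ t * (a : F) + (0 : F) * σ t - t * σ 0,
          tau_skew hσσ t a 0 0⟩ : skewS σ) = sc σ (t * σ t) a := by
        apply Subtype.ext
        rw [sc_val hNt]
        simp
      have e2 : σ (0 : F) - (a : F) * σ t = -((a : F) * σ t) := by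
        rw [map_zero, zero_sub]
      rw [e1, e2]
      exact h1
    · obtain ⟨b, hb⟩ := hν
      refine ⟨b, ?_⟩
      rw [tauR_apply]
      have e1 : (⟨(b : F) + t * σ t * ((0 : skewS σ) : F) + (0 : F) * σ t - t * σ 0,
          tau_skew hσσ t 0 b 0⟩ : skewS σ) = b := by
        apply Subtype.ext
        simp
      have e2 : σ (0 : F) - ((0 : skewS σ) : F) * σ t = 0 := by
        simp
      rw [e1, e2]
      exact hb

end Cfsg.Agent.Lib.Helper1.SUMin
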