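import Mathlib
import Cfsg.Agent.Lib.Helper1.SUMin.Main
import Cfsg.Agent.Lib.Helper7.SURFrame
import Cfsg.Agent.Lib.Helper8.SUTFrame0

set_option autoImplicit false

/-!
Minimal degree of `SU_n(q)` (S2334, S2335): the bound for `Cfsg.SU n F q` from `m` hyperbolic pairs of
the standard Hermitian form, and the two parities.
-/

namespace Cfsg.Agent.Lib.Helper1.SUMin

open Module Cfsg Cfsg.Agent.Lib.Helper2 Cfsg.Agent.Lib.Helper2.IsomDecomp Cfsg.Agent.Lib.Helper2.UT
  Cfsg.Agent.Lib.Helper5.PSLCoset Cfsg.Agent.Lib.Helper1.SUR Cfsg.Agent.Lib.Helper1.SUT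

variable {F : Type*} [Field F] [Fintype F] [DecidableEq F]

theorem su_min_degree_sum (n q m : ℕ) (hn : 3 ≤ n) (hF : Fintype.card F = q ^ 2)
    (h32 : ¬ (n = 3 ∧ q = 2)) {e f : ℕ → (Fin n → F)}
    (hp : HPairs (Cfsg.hermForm n F q) m e f) :
    ∀ (k : ℕ) (ρ : Representation ℂ (Cfsg.SU n F q) (Fin k → ℂ)), ρ.IsIrreducible → 2 ≤ k →
      ∑ i ∈ Finset.range m, (q - 1) * q ^ (n - 2 * i - 2) ≤ k := by
  apply su_min_degree_of_T n q hn hF h32
  intro σ hσ hσq h χ hχ hne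
  have hq2 : 2 ≤ q := Cfsg.Agent.Lib.Helper1.HermCount.two_le_q hF
  have hnd : ∀ v : Fin n → F, (∀ w, Cfsg.hermForm n F q v w = 0) → v = 0 :=
    fun v hv => GUIsom.hermForm_nondeg n q (by omega) v hv
  have hdim : finrank F (Fin n → F) = n := by
    rw [Module.finrank_fin_fun]
  have hbig : finrank F (Fin n → F) = 3 → ∃ c : F, σ c = c ∧ c ≠ 0 ∧ c ≠ 1 := by
    intro h3
    rw [hdim] at h3
    have hq3 : 3 ≤ q := by
      by_contra hlt
      exact h32 ⟨h3, by omega⟩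
    obtain ⟨c, hc, hc0, hc1⟩ := exists_fixed_ne hF hq3
    exact ⟨c, by rw [hσq, hc], hc0, hc1⟩
  -- zero extension of the `e i`
  set e' : ℕ → (Fin n → F) := fun i => if i < m then e i else 0 with he'
  have he'i : ∀ i, i < m → e' i = e i := by
    intro i hi
    rw [he']
    exact if_pos hi
  have he'0 : ∀ i, ¬ i < m → e' i = 0 := by
    intro i hi
    rw [he']
    exact if_neg hi
  have hp' : HPairs (Cfsg.hermForm n F q) m e' f := by
    refine ⟨?_, hp.ff, ?_, ?_⟩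
    · intro i j hi hj
      rw [he'i i hi, he'i j hj]
      exact hp.ee i j hi hj
    · intro i j hi hj
      rw [he'i i hi]
      exact hp.ef i j hi hj
    · intro i j hi hj
      rw [he'i j hj]
      exact hp.fe i j hi hj
  have hee : ∀ i j, Cfsg.hermForm n F q (e' i) (e' j) = 0 := by
    intro i j
    by_cases hi : i < m
    · by_cases hj : j < m
      · exact hp'.ee i j hi hj
      · rw [he'0 j hj]
        exact h.zero_right _
    · rw [he'0 i hi]
      exact h.zero_left _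
  have key := min_degree_T h hσ hnd (by rw [hdim]; exact hn) hbig hF hp' hee hχ hne
  rw [hdim] at key
  exact key

theorem su_min_degree_odd (m q : ℕ) (hm : 1 ≤ m) (hF : Fintype.card F = q ^ 2)
    (h32 : ¬ (2 * m + 1 = 3 ∧ q = 2)) :
    ∀ (k : ℕ) (ρ : Representation ℂ (Cfsg.SU (2 * m + 1) F q) (Fin k → ℂ)), ρ.IsIrreducible →
      2 ≤ k → (q ^ (2 * m + 1) - q) / (q + 1) ≤ k := by
  obtain ⟨e, f, d, fr⟩ := Cfsg.Agent.Lib.Helper1.SUR.exists_frame hF m
  have hq2 : 2 ≤ q := Cfsg.Agent.Lib.Helper1.HermCount.two_le_q hF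
  have key := su_min_degree_sum (2 * m + 1) q m (by omega) hF h32 (hPairs_of_frame fr)
  rw [sum_odd q m (by omega)] at key
  exact key

theorem su_min_degree_even (m q : ℕ) (hm : 2 ≤ m) (hF : Fintype.card F = q ^ 2) :
    ∀ (k : ℕ) (ρ : Representation ℂ (Cfsg.SU (2 * m) F q) (Fin k → ℂ)), ρ.IsIrreducible →
      2 ≤ k → (q ^ (2 * m) - 1) / (q + 1) ≤ k := by
  obtain ⟨e, f, fr⟩ := Cfsg.Agent.Lib.Helper1.SUT.exists_frame0 hF m
  have hq2 : 2 ≤ q := Cfsg.Agent.Lib.Helper1.HermCount.two_le_q hF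
  have key := su_min_degree_sum (2 * m) q m (by omega) hF (by omega) fr.hPairs
  rw [sum_even q m (by omega)] at key
  exact key

end Cfsg.Agent.Lib.Helper1.SUMin
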